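import Cfsg.Agent.TH.Fin.Asm2
import Cfsg.Agent.TH.Red
import Cfsg.Agent.TH.Spor.Main
import Cfsg.Agent.TH.ExG.Main
import Cfsg.Agent.TH.ExT.Main
import Cfsg.Agent.TH.Ex.Si.Main
import Cfsg.Agent.TH.Ex.Mu.Main
import Cfsg.Agent.TH.Ex.Ab.Frm
import Cfsg.Agent.TH.Ex.Ab.Tor
import Cfsg.Agent.TH.Ex.Ab.Max
import Cfsg.Agent.TH.Ex.Ab.CompRed
import Cfsg.Agent.TH.Ex.Ab.CompRel

/-!
# S3541: everything but `BoxRt` and `BoxNT` (helper60)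
-/

set_option autoImplicit false

namespace Cfsg.Agent.TH.Fin

theorem allAS₃ (rt : Ab.Cmp.BoxRt) (nt : Ab.BoxNT) : AllAS :=
  have B : Ab.Boxes := ⟨Ab.boxFrm, Ab.boxMax_of (Ab.Cmp.boxComp2_of rt), Ab.boxTor, nt⟩
  allAS₂ rowSpor rowTits boxG2 box3D4
    (nonOwn_of_nonBN boxBN (nonBN_of boxTri B.noAb_F4 Ex.Si.noSi_F4 Ex.Mu.noMul_f4))
    (nonOwn_of_nonBN boxBN (nonBN_of boxTri B.noAb_E6 Ex.Si.noSi_E6 Ex.Mu.noMul_e6))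
    (nonOwn_of_nonBN boxBN (nonBN_of boxTri B.noAb_2E6 Ex.Si.noSi_2E6 Ex.Mu.noMul_te6))
    (nonOwn_of_nonBN boxBN (nonBN_of boxTri B.noAb_E7 Ex.Si.noSi_E7 Ex.Mu.noMul_e7))
    (nonOwn_of_nonBN boxBN (nonBN_of boxTri B.noAb_E8 Ex.Si.noSi_E8 Ex.Mu.noMul_e8))

end Cfsg.Agent.TH.Fin
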