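import Cfsg.Agent.TH.Fin.Asm
import Cfsg.Agent.TH.Sim.Spor
import Cfsg.Agent.TH.Sim.LieMain
import Cfsg.Agent.TH.Sim.Dat
import Cfsg.Agent.TH.Ex1.TF

/-!
# S3541: the classical socles and `²F₄(q)` are complete (helper60)
-/

set_option autoImplicit false

namespace Cfsg.Agent.TH.Fin

theorem allAS₂ (spor : RowSpor) (tits : RowTits) (g2 : BoxG2) (td4 : Box3D4) (f4 : BoxF4) (e6 : BoxE6) (te6 : Box2E6)
    (e7 : BoxE7) (e8 : BoxE8) : AllAS :=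
  allAS ⟨spor, tits, Sim.boxSimSpor Sv.boxClDat Sv.boxNec, Sim.boxSimLie, g2, f4, e6, e7, e8, te6, td4, box2F4⟩

end Cfsg.Agent.TH.Fin
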