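import Cfsg.Agent.TH.Fin.BN
import Cfsg.Agent.TH.Fin.Cl
import Cfsg.Agent.TH.Alt.Row
import Cfsg.Agent.TH.PslRow
import Cfsg.Agent.TH.Sim.Alt
import Cfsg.Agent.TH.Sim.AltBig
import Cfsg.Agent.TH.Ex1.Sz
import Cfsg.Agent.TH.Ex.R1.Ree
import Cfsg.Agent.S0000

/-!
# S3541: the almost simple case from the boxes which are proved elsewhere (helper60)
-/

set_option autoImplicit false

namespace Cfsg.Agent.TH.Fin

/-- the remaining boxes -/
structure Rest : Prop where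
  spor : RowSpor
  tits : RowTits
  simSpor : BoxSimSpor
  simLie : BoxSimLie
  g2 : BoxG2
  f4 : BoxF4
  e6 : BoxE6
  e7 : BoxE7
  e8 : BoxE8
  te6 : Box2E6
  td4 : Box3D4
  tf4 : Box2F4

theorem allK : AllK := fun _ _ _ _ => Cfsg.Agent.S0000.result

theorem allAS (h : Rest) : AllAS :=
  allAS_of allK Alt.rowAlt Psl.rowPSL2 h.spor h.tits (rowLie_of allK Own.boxOwn
    (Cl.boxesCl ⟨Sim.boxSimAltBig, Sim.boxSimAlt, h.simSpor, h.simLie⟩)
    ⟨h.g2, h.f4, h.e6, h.e7, h.e8, h.te6, h.td4, boxSz, h.tf4, Ex.R1.boxRee⟩)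

/-- a box for an exceptional family from its three cases -/
theorem nonOwn_of {P : PFam} (h1 : NoAb P) (h2 : NoSi P) (h3 : NoMul P) : NonOwn P :=
  nonOwn_of_nonBN boxBN (nonBN_of boxTri h1 h2 h3)

end Cfsg.Agent.TH.Fin
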