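import Cfsg.Agent.TH.Own.Main
import Cfsg.Agent.TH.BN
import Cfsg.Agent.TH.R1Id.Main
import Cfsg.Agent.FixBN.Transport

/-!
# S3541: `BoxBN` (helper60; the proof of `boxBldBN` is that of `Own.boxBld`)
-/

set_option autoImplicit false

namespace Cfsg.Agent.TH

open Own Own.Bld

theorem boxBldBN : BoxBldBN := by
  rintro G _ _ T H m p c ⟨E₀, hE₀, hlie⟩
  have hp : Fact p.Prime := ⟨c.prime⟩
  have := c.as.simple
  let ι := {L : Subgroup G // ∃ h ∈ H, L = cj h (E₀.map H.subtype)}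
  let E : ι → Subgroup G := Subtype.val
  have h1 : ∀ l : ι, ∃ K : Subgroup H, Cfsg.IsComponent K ∧ E l = K.map H.subtype ∧ Nonempty (E₀ ≃* E l) := by
    rintro ⟨_, h, hh, rfl⟩
    obtain ⟨h2, ⟨e⟩⟩ := H296.Lift.comp_map (MulAut.conj (⟨h, hh⟩ : H)) hE₀
    have h3 : cj h (E₀.map H.subtype) = (cj (⟨h, hh⟩ : H) E₀).map H.subtype := (map_cj H.subtype ⟨h, hh⟩ E₀).symm
    exact ⟨_, h2, h3, ⟨(e.trans (Subgroup.equivMapOfInjective _ _ H.subtype_injective)).trans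
      (MulEquiv.subgroupCongr h3.symm)⟩⟩
  have hq : ∀ l, Cfsg.IsQuasisimple (E l) := fun l => by
    obtain ⟨-, -, -, ⟨e⟩⟩ := h1 l
    exact quasi_equiv e hE₀.2
  have hs : ∀ l, FixBN.HasSplit p (E l ⧸ Subgroup.center (E l)) := fun l => by
    obtain ⟨-, -, -, ⟨e⟩⟩ := h1 l
    obtain ⟨e'⟩ := Fischer919.CentralQuot.equiv_quotient_center e
    exact FixBN.Transport.hasSplit_congr e' hlie
  have comm : ∀ l l', l ≠ l' → ∀ x ∈ E l, ∀ y ∈ E l', x * y = y * x := fun l l' e x hx y hy => by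
    obtain ⟨K, hK, h2, -⟩ := h1 l
    obtain ⟨K', hK', h3, -⟩ := h1 l'
    obtain ⟨x, h4, rfl⟩ := h2.le hx
    obtain ⟨y, h5, rfl⟩ := h3.le hy
    have h6 := Subgroup.commutator_eq_bot_iff_le_centralizer.1
      (SignalizersComponents.Components.component_commutator_eq_bot_of_ne hK hK' fun e' =>
        e (Subtype.ext (h2.trans (e' ▸ h3.symm))))
    exact (congrArg Subtype.val (h6 h4 y h5)).symm
  have hH : ⨆ l, E l ≤ H := iSup_le fun l => by
    obtain ⟨K, -, h2, -⟩ := h1 l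
    exact h2.le.trans (Subgroup.map_subtype_le K)
  have h2 : ∀ h ∈ H, ∀ l, ∃ l', cj h (E l) = E l' := by
    rintro h hh ⟨_, g, hg, rfl⟩
    exact ⟨⟨_, h * g, mul_mem hh hg, rfl⟩, (cj_mul h g _).symm⟩
  have h3 : ∀ h ∈ H, cj h (⨆ l, E l) ≤ ⨆ l, E l := fun h hh => by
    rw [cj_iSup]
    exact iSup_le fun l => (h2 h hh l).elim fun l' e => e.le.trans (le_iSup E l')
  have h4 : ∀ h ∈ H, cj h (⨆ l, E l) = ⨆ l, E l := fun h hh =>
    le_antisymm (h3 h hh) (by simpa only [inv_inv] using (cj_le_iff h⁻¹).1 (h3 h⁻¹ (inv_mem hh)))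
  let l₀ : ι := ⟨_, 1, one_mem H, rfl⟩
  have h5 : Subgroup.normalizer ((⨆ l, E l : Subgroup G) : Set G) = H := by
    refine c.half.normalizer_eq (fun e => ?_) hH fun h hh => nm_iff.2 (h4 h hh)
    obtain ⟨x, hx, -⟩ := pe_of_hasSplit (hs l₀)
    exact hx (by rw [show x = 1 from Subtype.ext (e.le (le_iSup E l₀ x.2))]; exact one_mem _)
  have hz : ∀ z ∈ Zc (⨆ l, E l), ∀ n : ℕ, z ^ p ^ n = 1 → z = 1 := fun z hz n hn => by
    have h6 := c.half.eq_bot_of_isPGroup (Par.dvd_of_lie c.as c.half c.prime c.lie)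
      ((Op_spec (p := p) (Zc (⨆ l, E l))).1.trans (inf_le_left.trans hH))
      (fun h hh => nm_iff.2 (nm_Op (nm_inf (h4 h hh) (by rw [cj_centralizer, h4 h hh])))) (Op_spec _).2.1
    refine h6.le (le_Op (Subgroup.zpowers_le.2 hz) (isP_zpowers hn) (fun g hg => nm_of_comm fun x hx => ?_)
      (Subgroup.mem_zpowers z))
    exact (Subgroup.zpowers_le.2 hz hx).2 g hg.1
  obtain ⟨I, hI, S, top⟩ := exists_US_prod comm l₀ hq hs hz
  obtain ⟨C, hC⟩ := exists_comps comm S top hq (fun l => pe_of_hasSplit (hs l))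
    fun h hh => h2 h (h5.le (nm_iff.2 hh))
  refine ⟨I, ι, hI, inferInstance, S, C, ⟨top.le.trans (iSup_le fun l => le_socle c.as (sch_lie c.as.nonab c.lie) (hq l).1),
    by rw [stabilizer_coe, cj_one, top]; exact hH, fun h hh => ?_⟩, fun l => ?_⟩
  · rw [smul_coe_eq_iff, cj_one] at hh
    rw [top, h4 h hh]
  · have h9 : ∀ L : Subgroup G, L = E l → ¬ p ∣ Nat.card (Zc (E l)) →
        FixBN.HasSplit p (L ⧸ Subgroup.center L) ∧ ¬ p ∣ Nat.card (Zc L) := by
      rintro _ rfl h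
      exact ⟨hs l, h⟩
    refine h9 _ (congrFun hC l) fun h6 => ?_
    obtain ⟨z, h7⟩ := exists_prime_orderOf_dvd_card' p h6
    have h8 : (z : G) = 1 := by
      refine hz z ⟨le_iSup E l z.2.1, fun x hx => ((iSup_le fun l' y hy => ?_ :
        ⨆ l, E l ≤ Subgroup.centralizer {(z : G)}) hx _ rfl).symm⟩ 1
        (by rw [pow_one, ← h7]; exact congrArg Subtype.val (pow_orderOf_eq_one z))
      rw [Subgroup.mem_centralizer_singleton_iff]
      by_cases e : l' = l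
      · exact z.2.2 y (e ▸ hy)
      · exact comm l' l e y hy z z.2.1
    rw [show z = 1 from Subtype.ext h8, orderOf_one] at h7
    exact c.prime.one_lt.ne h7

/-- **[BN]** -/
theorem boxBN : BoxBN := boxBN_of boxAmb boxBldBN boxR1Id boxR1D boxFold boxOne boxTwo boxRk1

end Cfsg.Agent.TH
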